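import Groth.Prelude.Def_ExtSupp
import Groth.Agent.Lib.ExtZero.Restr
import Mathlib.CategoryTheory.Sites.CoversTop.Basic
import Mathlib.CategoryTheory.Adjunction.Additive

/-!
# Ext with supports is local near the support
-/

set_option linter.style.haveILetI false
set_option autoImplicit false

universe u

open CategoryTheory CategoryTheory.Limits Opposite

namespace Groth.Agent.Lib.ExtSupp28.Local

variable {C : Type u} [SmallCategory C] {J : GrothendieckTopology C} {O : Sheaf J CommRingCat.{u}}

/-- Restriction of sections. -/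
noncomputable abbrev res (F : ModSite.Mod O) {X Y : C} (f : Y ⟶ X) (x : ModSite.sect F X) : ModSite.sect F Y :=
  (F.val.map f.op).hom x

lemma res_res (F : ModSite.Mod O) {X Y Z : C} (f : Y ⟶ X) (g : Z ⟶ Y) (x : ModSite.sect F X) :
    res F g (res F f x) = res F (g ≫ f) x :=
  (congr($(F.val.presheaf.map_comp f.op g.op) x)).symm

lemma res_id (F : ModSite.Mod O) {X : C} (x : ModSite.sect F X) : res F (𝟙 X) x = x :=
  congr($(F.val.presheaf.map_id (op X)) x)

lemma res_app {F G : ModSite.Mod O} (φ : F ⟶ G) {X Y : C} (f : Y ⟶ X) (x : ModSite.sect F X) :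
    res G f ((φ.val.app (op X)).hom x) = (φ.val.app (op Y)).hom (res F f x) :=
  (PresheafOfModules.naturality_apply φ.val f.op x).symm

/-- The presheaf of sets of sections. -/
noncomputable abbrev types (F : ModSite.Mod O) : Cᵒᵖ ⥤ Type u := F.val.presheaf ⋙ forget AddCommGrpCat.{u}

lemma isSheaf_types (F : ModSite.Mod O) : Presieve.IsSheaf J (types F) :=
  (isSheaf_iff_isSheaf_of_type _ _).1 ((Presheaf.isSheaf_iff_isSheaf_forget J _ _).1 F.isSheaf)

lemma sect_ext (F : ModSite.Mod O) {X : C} {S : Sieve X} (hS : S ∈ J X) {x y : ModSite.sect F X}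
    (h : ∀ ⦃Y : C⦄ (f : Y ⟶ X), S f → res F f x = res F f y) : x = y :=
  ((isSheaf_types F).isSeparated _ hS).ext fun Y f hf => h f hf

variable {U V : C} (hUV : J.CoversTop (fun b : Bool => cond b U V)) (hV : ∀ X : C, Subsingleton (X ⟶ V))

/-- The covering sieve. -/
abbrev cov (X : C) : Sieve X := Sieve.ofObjects (fun b : Bool => cond b U V) X

lemma cases_cov {X Y : C} {f : Y ⟶ X} (hf : cov (U := U) (V := V) X f) :
    Nonempty (Y ⟶ U) ∨ Nonempty (Y ⟶ V) := by
  obtain ⟨b, ⟨g⟩⟩ := hf
  cases b
  · exact .inr ⟨g⟩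
  · exact .inl ⟨g⟩

include hV

lemma over_ext {Y : C} (g g' : Y ⟶ V) : g = g' := (hV Y).elim g g'

variable {P N : ModSite.Mod O} (hP : ModSite.IsNullOn O U P)
  (θ : (ModSite.restr O V).obj P ⟶ (ModSite.restr O V).obj N)

open Classical in
/-- The candidate value of the extension on objects of the covering. -/
noncomputable def fam (Y : C) (y : ModSite.sect P Y) : ModSite.sect N Y :=
  if h : Nonempty (Y ⟶ V) then (θ.val.app (op (Over.mk h.some))).hom y else 0

lemma fam_eq {Y : C} (g : Y ⟶ V) (y : ModSite.sect P Y) :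
    fam θ Y y = (θ.val.app (op (Over.mk g))).hom y := by
  have h : Nonempty (Y ⟶ V) := ⟨g⟩
  obtain rfl := over_ext hV g h.some
  exact dif_pos h

omit hV in
lemma fam_neg {Y : C} (h : ¬ Nonempty (Y ⟶ V)) (y : ModSite.sect P Y) : fam θ Y y = 0 :=
  dif_neg h

include hP

lemma fam_res {Y Z : C} (g : Z ⟶ Y) (hY : Nonempty (Y ⟶ U) ∨ Nonempty (Y ⟶ V))
    (y : ModSite.sect P Y) : res N g (fam θ Y y) = fam θ Z (res P g y) := by
  rcases hY with ⟨⟨a⟩⟩ | ⟨⟨b⟩⟩
  · rw [(ExtSupp.isNullOn_iff O U P).1 hP (g ≫ a) (res P g y),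
      (ExtSupp.isNullOn_iff O U P).1 hP a y]
    have h0 : ∀ W : C, fam θ W 0 = 0 := fun W => by
      by_cases h : Nonempty (W ⟶ V)
      · exact (dif_pos h).trans (map_zero (θ.val.app (op (Over.mk h.some))).hom)
      · exact fam_neg θ h 0
    rw [h0, h0]
    exact map_zero _
  · rw [fam_eq hV θ b, fam_eq hV θ (g ≫ b)]
    exact (PresheafOfModules.naturality_apply θ.val
      (Over.homMk g rfl : Over.mk (g ≫ b) ⟶ Over.mk b).op y).symm

include hUV

lemma exists_ext (X : C) (x : ModSite.sect P X) :
    ∃ z : ModSite.sect N X, ∀ ⦃Y : C⦄ (f : Y ⟶ X), cov (U := U) (V := V) X f →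
      res N f z = fam θ Y (res P f x) := by
  let φ : Presieve.FamilyOfElements (types N) (cov (U := U) (V := V) X).arrows :=
    fun Y f _ => fam θ Y (res P f x)
  have hφ : φ.Compatible := fun Y₁ Y₂ Z g₁ g₂ f₁ f₂ h₁ h₂ e => by
    show res N g₁ (fam θ Y₁ (res P f₁ x)) = res N g₂ (fam θ Y₂ (res P f₂ x))
    rw [fam_res hV hP θ g₁ (cases_cov h₁), fam_res hV hP θ g₂ (cases_cov h₂), res_res, res_res, e]
  obtain ⟨z, hz, -⟩ := isSheaf_types N (cov X) (hUV X) φ hφ
  exact ⟨z, fun Y f hf => hz f hf⟩

/-- A morphism out of a module null on `U` is determined on `V`, and any morphism on `V` extends. -/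
theorem restr_bijective :
    Function.Bijective (fun φ : P ⟶ N => (ModSite.restr O V).map φ) := by
  refine ⟨fun φ φ' h => ?_, fun θ => ?_⟩
  · ext X x
    refine sect_ext N (hUV X.unop) fun Y f hf => ?_
    rw [res_app, res_app]
    rcases cases_cov hf with ⟨⟨a⟩⟩ | ⟨⟨b⟩⟩
    · rw [(ExtSupp.isNullOn_iff O U P).1 hP a (res P f x), map_zero, map_zero]
    · exact congrArg (fun ψ : (ModSite.restr O V).obj P ⟶ (ModSite.restr O V).obj N =>
        (ψ.val.app (op (Over.mk b))).hom (res P f x)) h
  · choose e he using exists_ext hUV hV hP θ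
    have hadd : ∀ (Y : C) (y y' : ModSite.sect P Y), fam θ Y (y + y') = fam θ Y y + fam θ Y y' :=
      fun Y y y' => by
        by_cases h : Nonempty (Y ⟶ V)
        · rw [fam_eq hV θ h.some, fam_eq hV θ h.some, fam_eq hV θ h.some]
          exact map_add (θ.val.app (op (Over.mk h.some))).hom y y'
        · rw [fam_neg θ h, fam_neg θ h, fam_neg θ h]; exact (add_zero _).symm
    have hsmul : ∀ (Y : C) (r : (ModSite.ringSh O).obj.obj (op Y)) (y : ModSite.sect P Y),
        fam θ Y (r • y) = r • fam θ Y y := fun Y r y => by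
      by_cases h : Nonempty (Y ⟶ V)
      · rw [fam_eq hV θ h.some, fam_eq hV θ h.some]
        exact (θ.val.app (op (Over.mk h.some))).hom.map_smul r y
      · rw [fam_neg θ h, fam_neg θ h]; exact (smul_zero r).symm
    let ψ : P.val ⟶ N.val :=
      { app := fun X => ModuleCat.ofHom
          { toFun := e X.unop
            map_add' := fun x x' => sect_ext N (hUV X.unop) fun Y f hf => by
              refine (he _ _ f hf).trans ?_
              refine Eq.trans ?_ (map_add (N.val.map f.op).hom _ _).symm
              refine (congrArg (fam θ Y) (map_add (P.val.map f.op).hom x x')).trans ?_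
              exact (hadd _ _ _).trans (congrArg₂ (· + ·) (he _ _ f hf).symm (he _ _ f hf).symm)
            map_smul' := fun r x => sect_ext N (hUV X.unop) fun Y f hf => by
              refine (he _ _ f hf).trans ?_
              refine (congrArg (fam θ Y) (PresheafOfModules.map_smul P.val f.op r x)).trans ?_
              refine (hsmul _ _ _).trans ?_
              refine Eq.trans ?_ (PresheafOfModules.map_smul N.val f.op r _).symm
              exact congrArg _ (he _ _ f hf).symm }
        naturality := fun {X X'} g => by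
          ext x
          refine sect_ext N (hUV X'.unop) fun Y f hf => ?_
          refine (he X'.unop (res P g.unop x) f hf).trans ?_
          show fam θ Y (res P f (res P g.unop x)) = res N f (res N g.unop (e X.unop x))
          rw [res_res, res_res]
          obtain ⟨b, hb⟩ := hf
          exact (he _ _ (f ≫ g.unop) ⟨b, hb⟩).symm }
    refine ⟨⟨ψ⟩, ?_⟩
    ext Z y
    refine sect_ext N (X := Z.unop.left) (hUV _) fun Y f hf => ?_
    refine (he Z.unop.left y f hf).trans ?_
    rw [fam_eq hV θ (f ≫ Z.unop.hom)]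
    exact PresheafOfModules.naturality_apply θ.val
      (Over.homMk f rfl : Over.mk (f ≫ Z.unop.hom) ⟶ Z.unop).op y

omit hP in
/-- A module null on `U` is extended by zero from `V`. -/
theorem isIso_counit {P : ModSite.Mod O} (hP : ModSite.IsNullOn O U P) :
    IsIso ((ModSite.extZeroAdj O V).counit.app P) := by
  rw [isIso_iff_coyoneda_map_bijective]
  intro N
  have h : Function.Bijective
      (fun φ : P ⟶ N => (ModSite.extZeroAdj O V).counit.app P ≫ φ) := by
    have e : (fun φ : P ⟶ N => (ModSite.extZeroAdj O V).counit.app P ≫ φ) =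
        (((ModSite.extZeroAdj O V).homEquiv _ N).symm) ∘ (fun φ => (ModSite.restr O V).map φ) := by
      funext φ
      simp [Adjunction.homEquiv_counit]
    rw [e]
    exact ((ModSite.extZeroAdj O V).homEquiv _ N).symm.bijective.comp
      (restr_bijective hUV hV hP)
  exact h

omit hUV hV hP

section Quot

variable [HasBinaryProducts C] (U V)

set_option backward.isDefEq.respectTransparency.types false in
/-- The right adjoint of the restriction to `V`. -/
noncomputable def star : ModSite.Mod (O.over V) ⥤ ModSite.Mod O :=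
  SheafOfModules.pushforward.{u} (SheafOfModules.pushforwardOver (R := ModSite.ringSh O) V)

set_option backward.isDefEq.respectTransparency.types false in
/-- The adjunction between restriction to `V` and `star`. -/
noncomputable def starAdj : ModSite.restr O V ⊣ star (O := O) V :=
  SheafOfModules.overPushforwardOverAdj (R := ModSite.ringSh O) V

instance : (star (O := O) V).Additive :=
  haveI := ExtSupp.restr_additive O V
  (starAdj V).right_adjoint_additive

set_option backward.isDefEq.respectTransparency.types false in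
lemma starAdj_app {M : ModSite.Mod O} {G : ModSite.Mod (O.over V)}
    (φ : (ModSite.restr O V).obj M ⟶ G) (X : C) (m : ModSite.sect M X) :
    (((starAdj V).homEquiv M G φ).val.app (op X)).hom m =
      (φ.val.app (op ((Over.star V).obj X))).hom (res M prod.snd m) := by
  rw [Adjunction.homEquiv_unit, ← Over.forgetAdjStar_counit_app V X]
  rfl

lemma star_hom (X : C) : ((Over.star V).obj X).hom = prod.fst := by
  simp [Over.star, coalgebraToOver, Comonad.cofree]
  exact prod.lift_fst _ _

/-- Killing the restriction of `M_U` is vanishing on `U × V`. -/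
theorem kills_iff {M : ModSite.Mod O} {G : ModSite.Mod (O.over V)}
    (φ : (ModSite.restr O V).obj M ⟶ G) :
    (ModSite.restr O V).map ((ModSite.extZeroAdj O U).counit.app M) ≫ φ = 0 ↔
      (ModSite.restr (O.over V) (Over.mk (prod.snd : U ⨯ V ⟶ V))).map φ = 0 := by
  let adj := starAdj (O := O) V
  let W : Over V := Over.mk (prod.snd : U ⨯ V ⟶ V)
  have h1 : (ModSite.restr O V).map ((ModSite.extZeroAdj O U).counit.app M) ≫ φ = 0 ↔
      (ModSite.extZeroAdj O U).counit.app M ≫ adj.homEquiv M G φ = 0 := by
    refine Iff.trans ((adj.homEquiv _ G).injective.eq_iff' ?_).symm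
      (Eq.congr_left (adj.homEquiv_naturality_left ((ModSite.extZeroAdj O U).counit.app M) φ))
    rw [Adjunction.homEquiv_unit, Functor.map_zero, comp_zero]
  rw [h1, ← ExtSupp.mem_homZ_iff]
  change (ModSite.restr O U).map (adj.homEquiv M G φ) = 0 ↔ _
  have hψ := fun (X : C) (m : ModSite.sect M X) => starAdj_app V φ X m
  constructor
  · intro h
    ext Z y
    let Y : C := Z.unop.left.left
    let t : Y ⟶ V := Z.unop.left.hom
    let g : Z.unop.left ⟶ W := Z.unop.hom
    have h0 : ((adj.homEquiv M G φ).val.app (op Y)).hom y = 0 :=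
      congrArg (fun ψ : (ModSite.restr O U).obj M ⟶ _ =>
        (ψ.val.app (op (Over.mk (g.left ≫ prod.fst : Y ⟶ U)))).hom y) h
    replace h0 := (hψ Y y).symm.trans h0
    let k : Z.unop.left ⟶ (Over.star V).obj Y := Over.homMk (prod.lift t (𝟙 Y)) (by rw [star_hom]; exact prod.lift_fst _ _)
    have h2 := PresheafOfModules.naturality_apply φ.val k.op (res M (prod.snd : V ⨯ Y ⟶ Y) y)
    replace h2 := h2.trans ((congrArg (G.val.map k.op).hom h0).trans (map_zero (G.val.map k.op).hom))
    change (φ.val.app (op Z.unop.left)).hom y = 0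
    refine Eq.trans (congrArg (φ.val.app (op Z.unop.left)).hom ?_) h2
    show y = res M (prod.lift t (𝟙 Y)) (res M prod.snd y)
    refine ((res_res M (prod.snd : V ⨯ Y ⟶ Y) (prod.lift t (𝟙 Y)) y).trans ?_).symm
    exact (congrArg (fun f : Y ⟶ Y => res M f y) (prod.lift_snd _ _)).trans (res_id M y)
  · intro h
    ext Z m
    change ((adj.homEquiv M G φ).val.app (op Z.unop.left)).hom m = 0
    refine (hψ Z.unop.left m).trans ?_
    let X : C := Z.unop.left
    let g : (Over.star V).obj X ⟶ W := Over.homMk (prod.lift (prod.snd ≫ Z.unop.hom) prod.fst)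
      (by rw [star_hom]; exact prod.lift_snd _ _)
    exact congrArg (fun ψ : (ModSite.restr (O.over V) W).obj ((ModSite.restr O V).obj M) ⟶ _ =>
      (ψ.val.app (op (Over.mk g))).hom (res M prod.snd m)) h

/-- The quotient commutes with restriction to `V`. -/
theorem nonempty_quotOn_restr (M : ModSite.Mod O) :
    Nonempty ((ModSite.quotOn (O.over V) (Over.mk (prod.snd : U ⨯ V ⟶ V))).obj
        ((ModSite.restr O V).obj M) ≅ (ModSite.restr O V).obj ((ModSite.quotOn O U).obj M)) := by
  let W : Over V := Over.mk (prod.snd : U ⨯ V ⟶ V)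
  haveI : (ModSite.restr O V).IsRightAdjoint := (ModSite.extZeroAdj O V).isRightAdjoint
  haveI : (ModSite.restr O V).Additive := ExtSupp.restr_additive O V
  haveI : PreservesFiniteLimits (ModSite.restr O V) := by
    haveI : PreservesLimitsOfSize.{0, 0} (ModSite.restr O V) :=
      (ModSite.extZeroAdj O V).rightAdjoint_preservesLimits
    exact PreservesLimitsOfSize.preservesFiniteLimits _
  haveI : PreservesFiniteColimits (ModSite.restr O V) :=
    PreservesColimitsOfSize.preservesFiniteColimits _
  let c₂ := (ModSite.extZeroAdj (O.over V) W).counit.app ((ModSite.restr O V).obj M)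
  let π₁ := (ModSite.restr O V).map ((ModSite.quotOnπ O U).app M)
  haveI hπ : Epi ((ModSite.quotOnπ O U).app M) := (ExtSupp.openSeq_exact U M).2
  haveI : Epi π₁ := (ModSite.restr O V).map_epi _
  have hS : ((ExtSupp.openSeq U M).map (ModSite.restr O V)).Exact :=
    (ExtSupp.openSeq_exact U M).1.map _
  have hw₁ : c₂ ≫ π₁ = 0 := (ExtSupp.mem_homZ_iff W π₁).1 ((kills_iff U V π₁).1
    ((ExtSupp.openSeq U M).map (ModSite.restr O V)).zero)
  have hw₂ : (ModSite.restr O V).map ((ModSite.extZeroAdj O U).counit.app M) ≫ cokernel.π c₂ = 0 :=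
    (kills_iff U V _).2 ((ExtSupp.mem_homZ_iff W _).2 (cokernel.condition _))
  haveI : Epi ((ExtSupp.openSeq U M).map (ModSite.restr O V)).g := inferInstanceAs (Epi π₁)
  let b := hS.desc (cokernel.π c₂) hw₂
  have hb : π₁ ≫ b = cokernel.π c₂ := hS.g_desc (cokernel.π c₂) hw₂
  exact ⟨⟨cokernel.desc c₂ π₁ hw₁, b, coequalizer.hom_ext (by
      exact (cokernel.π_desc_assoc c₂ π₁ hw₁ b).trans (hb.trans (Category.comp_id _).symm)),
    (cancel_epi π₁).1 ((Category.assoc π₁ b _).symm.trans ((congrArg (· ≫ _) hb).trans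
      ((cokernel.π_desc c₂ π₁ hw₁).trans (Category.comp_id π₁).symm)))⟩⟩

end Quot

end Groth.Agent.Lib.ExtSupp28.Local
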